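import Groth.Agent.HensFormalLib.Radicial
import Mathlib.RingTheory.Ideal.GoingUp
import Mathlib.RingTheory.Localization.Integral
import Mathlib.RingTheory.Ideal.MinimalPrime.Localization

/-! Geometric unibranchness along integral birational extensions of local rings. -/

set_option autoImplicit false
set_option linter.style.haveILetI false
set_option maxHeartbeats 1000000
universe u

open IsLocalRing

namespace BirUnibLib

noncomputable section

/-- Birationality of `A → C` at the unique minimal primes, on elements. -/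
def FracSurj (A C : Type u) [CommRing A] [CommRing C] [Algebra A C] : Prop :=
  ∀ c : C, ∃ a s : A, s ∉ nilradical A ∧ algebraMap A C s * c - algebraMap A C a ∈ nilradical C

theorem exists_normRed_bij (A C : Type u) [CommRing A] [CommRing C] [Algebra A C] [Algebra.IsIntegral A C]
    [IsDomain (CAlg2.red A)] [IsDomain (CAlg2.red C)]
    (hnil : ∀ a : A, algebraMap A C a ∈ nilradical C → a ∈ nilradical A) (hs : FracSurj A C) :
    ∃ j : CAlg2.normRed A →+* CAlg2.normRed C, Function.Bijective j ∧
      ∀ a, j (algebraMap A _ a) = algebraMap C _ (algebraMap A C a) := by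
  obtain ⟨φ, j, hφ, hj, hjA⟩ := HensFormalLib.exists_normRed_map A C hnil
  have hne : ∀ s : A, s ∉ nilradical A → algebraMap A (FractionRing (CAlg2.red A)) s ≠ 0 := fun s hs h => by
    rw [IsScalarTower.algebraMap_apply A (CAlg2.red A), map_eq_zero_iff _ (IsFractionRing.injective _ _)] at h
    exact hs (Ideal.Quotient.eq_zero_iff_mem.1 h)
  have hC : ∀ c : C, algebraMap C (FractionRing (CAlg2.red C)) c ∈ φ.range := fun c => by
    obtain ⟨a, s, hs', hc⟩ := hs c
    refine ⟨algebraMap A _ a / algebraMap A _ s, ?_⟩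
    have h1 : algebraMap C (FractionRing (CAlg2.red C)) (algebraMap A C s * c - algebraMap A C a) = 0 := by
      rw [IsScalarTower.algebraMap_apply C (CAlg2.red C) (FractionRing (CAlg2.red C))]
      show algebraMap _ _ (Ideal.Quotient.mk _ _) = _
      rw [Ideal.Quotient.eq_zero_iff_mem.2 hc, map_zero]
    rw [map_sub, map_mul, sub_eq_zero, ← hφ, ← hφ] at h1
    rw [map_div₀, ← h1, mul_div_cancel_left₀ _ (fun h => hne s hs' ((map_eq_zero φ).1 h))]
  have hφs : Function.Surjective φ := fun z => by
    obtain ⟨a, b, -, rfl⟩ := IsFractionRing.div_surjective (CAlg2.red C) z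
    obtain ⟨a, rfl⟩ := Ideal.Quotient.mk_surjective a
    obtain ⟨b, rfl⟩ := Ideal.Quotient.mk_surjective b
    obtain ⟨x, hx⟩ := hC a
    obtain ⟨y, hy⟩ := hC b
    refine ⟨x / y, ?_⟩
    rw [map_div₀, hx, hy, IsScalarTower.algebraMap_apply C (CAlg2.red C) (FractionRing (CAlg2.red C)),
      IsScalarTower.algebraMap_apply C (CAlg2.red C) (FractionRing (CAlg2.red C))]
    rfl
  haveI : Algebra.IsIntegral A (CAlg2.red C) := ⟨fun z => by
    obtain ⟨c, rfl⟩ := Ideal.Quotient.mk_surjective z
    exact (Algebra.IsIntegral.isIntegral (R := A) c).map (IsScalarTower.toAlgHom A C (CAlg2.red C))⟩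
  refine ⟨j, ⟨fun x y hxy => ?_, fun z => ?_⟩, hjA⟩
  · have h1 := congrArg (fun w : CAlg2.normRed C => w.1) hxy
    simp only [hj] at h1
    exact Subtype.ext (φ.injective h1)
  · obtain ⟨x, hx⟩ := hφs z.1
    have hxi : IsIntegral (CAlg2.red A) x := by
      have h1 : IsIntegral A (φ x) := by
        rw [hx]
        exact isIntegral_trans (R := A) (A := CAlg2.red C) _ z.2
      obtain ⟨P, hP, hPx⟩ := h1
      refine IsIntegral.tower_top (R := A) ⟨P, hP, φ.injective ?_⟩
      rw [Polynomial.hom_eval₂, map_zero, ← hPx, IsScalarTower.algebraMap_eq A C (FractionRing (CAlg2.red C))]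
      congr 1
      exact RingHom.ext hφ
    exact ⟨⟨x, hxi⟩, Subtype.ext (by rw [hj]; exact hx)⟩

theorem ker_le_maximal (A : Type u) [CommRing A] (M : Ideal A) [M.IsPrime] :
    RingHom.ker (algebraMap A (CAlg2.normRed A)) ≤ M := fun a ha => by
  have h1 : algebraMap (CAlg2.red A) (FractionRing (CAlg2.red A)) (Ideal.Quotient.mk _ a) = 0 := by
    have := congrArg Subtype.val (RingHom.mem_ker.1 ha)
    exact this
  exact nilradical_le_prime M (Ideal.Quotient.eq_zero_iff_mem.1 ((map_eq_zero_iff _ (IsFractionRing.injective _ _)).1 h1))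

/-- Integral birational extensions of a unibranch local ring are local. -/
theorem isLocalRing_of_birational (A C : Type u) [CommRing A] [CommRing C] [Algebra A C] [Algebra.IsIntegral A C]
    [Nontrivial C] [IsDomain (CAlg2.red A)] [IsDomain (CAlg2.red C)]
    (hnil : ∀ a : A, algebraMap A C a ∈ nilradical C → a ∈ nilradical A) (hs : FracSurj A C)
    [IsLocalRing (CAlg2.normRed A)] : IsLocalRing C := by
  obtain ⟨j, hj, -⟩ := exists_normRed_bij A C hnil hs
  haveI : IsLocalRing (CAlg2.normRed C) := (RingEquiv.ofBijective j hj).isLocalRing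
  haveI : Algebra.IsIntegral C (CAlg2.normRed C) := Algebra.IsIntegral.trans (CAlg2.red C)
  refine .of_unique_max_ideal ⟨(maximalIdeal (CAlg2.normRed C)).comap (algebraMap C _),
    Ideal.isMaximal_comap_of_isIntegral_of_isMaximal _, fun M hM => ?_⟩
  haveI := hM.isPrime
  obtain ⟨N, -, hN, hNM⟩ := Ideal.exists_ideal_over_prime_of_isIntegral M (⊥ : Ideal (CAlg2.normRed C))
    (ker_le_maximal C M)
  haveI := hN
  haveI : N.IsMaximal := Ideal.isMaximal_of_isIntegral_of_isMaximal_comap N (hNM ▸ hM)
  rw [← hNM, IsLocalRing.eq_maximalIdeal ‹N.IsMaximal›]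

/-- Geometric unibranchness along an integral birational map of local rings. -/
theorem isGeomUnibranch_iff_of_birational (A C : Type u) [CommRing A] [CommRing C] [IsLocalRing A] [IsLocalRing C]
    [Algebra A C] [Algebra.IsIntegral A C] [IsDomain (CAlg2.red A)] [IsDomain (CAlg2.red C)]
    (hnil : ∀ a : A, algebraMap A C a ∈ nilradical C → a ∈ nilradical A) (hs : FracSurj A C)
    (q : ℕ) [ExpChar (ResidueField A) q] :
    CAlg2.IsGeomUnibranch A ↔ CAlg2.IsGeomUnibranch C ∧
      ∀ c : C, ∃ (n : ℕ) (a : A), c ^ q ^ n - algebraMap A C a ∈ maximalIdeal C := by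
  obtain ⟨j, hj, hjA⟩ := exists_normRed_bij A C hnil hs
  let e := RingEquiv.ofBijective j hj
  have hmA : (maximalIdeal C).comap (algebraMap A C) = maximalIdeal A :=
    IsLocalRing.eq_maximalIdeal (Ideal.isMaximal_comap_of_isIntegral_of_isMaximal (R := A) _)
  haveI : IsLocalHom (algebraMap A C) := ((IsLocalRing.local_hom_TFAE _).out 0 4).2 hmA
  haveI : ExpChar (ResidueField C) q :=
    expChar_of_injective_ringHom (IsLocalRing.ResidueField.map (algebraMap A C)).injective q
  haveI : Algebra.IsIntegral C (CAlg2.normRed C) := Algebra.IsIntegral.trans (CAlg2.red C)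
  have hmC : ∀ (M : Ideal (CAlg2.normRed C)), M.IsMaximal → M.comap (algebraMap C _) = maximalIdeal C :=
    fun M hM => IsLocalRing.eq_maximalIdeal (Ideal.isMaximal_comap_of_isIntegral_of_isMaximal (R := C) M)
  have hexp : ∀ (M : Ideal (CAlg2.normRed C)) [M.IsMaximal], ExpChar (CAlg2.normRed C ⧸ M) q := fun M hM => by
    letI := Ideal.Quotient.field M
    let g : ResidueField C →+* CAlg2.normRed C ⧸ M :=
      Ideal.Quotient.lift (maximalIdeal C) ((Ideal.Quotient.mk M).comp (algebraMap C _)) fun c hc =>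
        Ideal.Quotient.eq_zero_iff_mem.2 ((hmC M hM).ge hc)
    exact expChar_of_injective_ringHom g.injective q
  constructor
  · intro hA
    haveI := hA.1.2
    have key : ∀ (M : Ideal (CAlg2.normRed C)) [M.IsMaximal] (z : CAlg2.normRed C), ∃ (n : ℕ) (a : A),
        z ^ q ^ n - algebraMap C _ (algebraMap A C a) ∈ M := fun M hM z => by
      obtain ⟨w, rfl⟩ := hj.2 z
      haveI : (M.comap j).IsMaximal := Ideal.comap_isMaximal_of_surjective j hj.2
      obtain ⟨n, a, ha⟩ := HensFormalLib.residue_pow hA (M.comap j) q w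
      refine ⟨n, a, ?_⟩
      rw [← hjA, ← map_pow, ← map_sub]
      exact ha
    haveI hlC : IsLocalRing (CAlg2.normRed C) := e.isLocalRing
    refine ⟨⟨⟨inferInstance, hlC⟩, fun M hM x => ?_⟩, fun c => ?_⟩
    · obtain ⟨z, rfl⟩ := Ideal.Quotient.mk_surjective x
      obtain ⟨n, a, ha⟩ := @key M hM z
      haveI := hexp M
      rw [ringExpChar.eq (CAlg2.normRed C ⧸ M) q]
      exact ⟨n, algebraMap A C a, (Ideal.Quotient.eq.2 ha).symm⟩
    · obtain ⟨n, a, ha⟩ := key (maximalIdeal _) (algebraMap C _ c)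
      refine ⟨n, a, (hmC (maximalIdeal (CAlg2.normRed C)) inferInstance).le ?_⟩
      rw [Ideal.mem_comap, map_sub, map_pow]
      exact ha
  · rintro ⟨hC, hres⟩
    haveI := hC.1.2
    haveI hlA : IsLocalRing (CAlg2.normRed A) := e.symm.isLocalRing
    refine ⟨⟨inferInstance, hlA⟩, fun M hM x => ?_⟩
    let N : Ideal (CAlg2.normRed C) := M.comap e.symm.toRingHom
    haveI hN : N.IsMaximal := Ideal.comap_isMaximal_of_surjective e.symm.toRingHom e.symm.surjective
    have hmemN : ∀ w, j w ∈ N ↔ w ∈ M := fun w => by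
      show e.symm (e w) ∈ M ↔ _
      rw [RingEquiv.symm_apply_apply]
    letI := Ideal.Quotient.field N
    letI := Ideal.Quotient.field M
    let g : CAlg2.normRed A ⧸ M →+* CAlg2.normRed C ⧸ N :=
      Ideal.Quotient.lift M ((Ideal.Quotient.mk N).comp j) fun w hw => Ideal.Quotient.eq_zero_iff_mem.2 ((hmemN w).2 hw)
    haveI := hexp N
    haveI : ExpChar (CAlg2.normRed A ⧸ M) q := (RingHom.expChar_iff g g.injective q).2 inferInstance
    rw [ringExpChar.eq (CAlg2.normRed A ⧸ M) q]
    obtain ⟨w, rfl⟩ := Ideal.Quotient.mk_surjective x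
    obtain ⟨n, c, hc⟩ := HensFormalLib.residue_pow hC N q (j w)
    obtain ⟨m, a, ha⟩ := hres c
    refine ⟨n + m, a, g.injective ?_⟩
    rw [map_pow]
    show Ideal.Quotient.mk N (j (algebraMap A _ a)) = Ideal.Quotient.mk N (j w) ^ q ^ (n + m)
    rw [pow_add, pow_mul, ← map_pow, Ideal.Quotient.eq.2 hc, ← map_pow, hjA, eq_comm, Ideal.Quotient.eq,
      ← map_pow, ← map_sub]
    exact (hmC N hN).ge ha

/-- The iso case. -/
theorem isGeomUnibranch_of_ringEquiv {A C : Type u} [CommRing A] [CommRing C] [IsLocalRing A] [IsLocalRing C]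
    (e : A ≃+* C) (h : CAlg2.IsGeomUnibranch A) : CAlg2.IsGeomUnibranch C := by
  letI := e.toRingHom.toAlgebra
  obtain ⟨q, hq⟩ := ExpChar.exists (ResidueField A)
  haveI := hq
  refine HensFormalLib.isGeomUnibranch_of_pow A C h q hq
    (fun c => ⟨0, e.symm c, by rw [pow_zero, pow_one]; exact (e.apply_symm_apply c).symm⟩) fun a ha => ?_
  have := (mem_nilradical.1 ha).map e.symm.toRingHom
  rw [mem_nilradical]
  simpa [RingHom.algebraMap_toAlgebra] using this

end

end BirUnibLib
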