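import Groth.Agent.BirUnibLib.Point

/-! The criterion at a prime: fibre uniqueness and the equivalence. -/

set_option autoImplicit false
set_option linter.style.haveILetI false
set_option maxHeartbeats 1000000
universe u

open IsLocalRing

namespace BirUnibLib

noncomputable section

variable {R B : Type u} [CommRing R] [CommRing B] [Algebra R B] [Algebra.IsIntegral R B]
  (m : Ideal R) [m.IsPrime] (A : Type u) [CommRing A] [IsLocalRing A] [Algebra R A] [IsLocalization.AtPrime A m]

theorem fibre_unique (h : Bir R B) (hA : CAlg2.IsUnibranch A) (Q Q' : Ideal B) (hQ : Q.IsPrime) (hQ' : Q'.IsPrime)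
    (e : Q.comap (algebraMap R B) = m) (e' : Q'.comap (algebraMap R B) = m) : Q = Q' := by
  let M := Algebra.algebraMapSubmonoid B m.primeCompl
  let C := Localization M
  letI : Algebra A C := (IsLocalization.map C (algebraMap R B)
    (show m.primeCompl ≤ M.comap (algebraMap R B) from fun x hx => ⟨x, hx, rfl⟩) : A →+* C).toAlgebra
  haveI : IsScalarTower R A C := IsScalarTower.of_algebraMap_eq fun r => by
    rw [RingHom.algebraMap_toAlgebra, IsLocalization.map_eq, ← IsScalarTower.algebraMap_apply]
  have hd : ∀ I : Ideal B, I.comap (algebraMap R B) = m → Disjoint (M : Set B) I := fun I hI => by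
    refine Set.disjoint_left.2 ?_
    rintro _ ⟨r, hr, rfl⟩ h'
    exact hr (hI ▸ h')
  have hQC := IsLocalization.isPrime_of_isPrime_disjoint M C Q hQ (hd Q e)
  haveI : Nontrivial C := ⟨0, 1, fun h0 => hQC.ne_top ((Ideal.eq_top_iff_one _).2 (h0 ▸ zero_mem _))⟩
  haveI : Algebra.IsIntegral A C := ⟨fun c => by
    obtain ⟨⟨b, _, r, hr, rfl⟩, hc⟩ := IsLocalization.surj M c
    obtain ⟨u, hu⟩ := IsLocalization.map_units A (⟨r, hr⟩ : m.primeCompl)
    have h1 : IsIntegral A (algebraMap B C b) :=
      ((Algebra.IsIntegral.isIntegral (R := R) b).map (IsScalarTower.toAlgHom R B C)).tower_top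
    have h2 : c = algebraMap A C ↑u⁻¹ * algebraMap B C b := by
      rw [← hc, ← IsScalarTower.algebraMap_apply R B C, IsScalarTower.algebraMap_apply R A C,
        show algebraMap R A r = ↑u from hu.symm, mul_left_comm, ← map_mul, Units.inv_mul, map_one, mul_one]
    exact h2 ▸ isIntegral_algebraMap.mul h1⟩
  obtain ⟨hS, hnil, hfs⟩ := nil_and_fracSurj m A C M h ((Ideal.Quotient.isDomain_iff_prime _).1 hA.1)
  haveI := hA.1
  haveI := hA.2
  haveI : IsDomain (CAlg2.red C) := (Ideal.Quotient.isDomain_iff_prime _).2 hS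
  haveI := isLocalRing_of_birational A C hnil hfs
  have hmax : ∀ I : Ideal B, I.IsPrime → I.comap (algebraMap R B) = m →
      (maximalIdeal C).comap (algebraMap B C) = I := fun I hI hIm => by
    haveI := IsLocalization.isPrime_of_isPrime_disjoint M C I hI (hd I hIm)
    have h2 : (I.map (algebraMap B C)).comap (algebraMap B C) = I :=
      IsLocalization.comap_map_of_isPrime_disjoint M C hI (hd I hIm)
    have h3 : (I.map (algebraMap B C)).comap (algebraMap A C) = maximalIdeal A := by
      refine le_antisymm (IsLocalRing.le_maximalIdeal (Ideal.comap_ne_top _ (Ideal.IsPrime.ne_top ‹_›))) fun a ha => ?_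
      obtain ⟨⟨r, t⟩, hrt⟩ := IsLocalization.surj m.primeCompl a
      have hr : r ∈ m := by
        rw [← IsLocalization.AtPrime.comap_maximalIdeal A m, Ideal.mem_comap, ← hrt]
        exact Ideal.mul_mem_right _ _ ha
      refine Ideal.mem_comap.2 ((Ideal.IsPrime.mem_or_mem (I := I.map (algebraMap B C)) ‹_›
        (y := algebraMap A C (algebraMap R A t)) ?_).resolve_right fun hc => ?_)
      · rw [← map_mul, hrt, ← IsScalarTower.algebraMap_apply, IsScalarTower.algebraMap_apply R B C]
        exact Ideal.mem_map_of_mem _ (show algebraMap R B r ∈ I from (hIm.symm ▸ hr : r ∈ I.comap (algebraMap R B)))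
      · exact Ideal.IsPrime.ne_top ‹_› (Ideal.eq_top_of_isUnit_mem _ hc
          ((IsLocalization.map_units A t).map (algebraMap A C)))
    haveI : (I.map (algebraMap B C)).IsMaximal := Ideal.isMaximal_of_isIntegral_of_isMaximal_comap _
      (show (Ideal.comap (algebraMap A C) (I.map (algebraMap B C))).IsMaximal from h3 ▸ inferInstance)
    rw [← IsLocalRing.eq_maximalIdeal ‹(I.map (algebraMap B C)).IsMaximal›, h2]
  rw [← hmax Q hQ e, hmax Q' hQ' e']

variable (Q : Ideal B) [Q.IsPrime] (S : Type u) [CommRing S] [IsLocalRing S] [Algebra B S]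
  [IsLocalization.AtPrime S Q] [Algebra R S] [Algebra A S] [IsScalarTower R A S] [IsScalarTower R B S]

theorem isIntegral_of_unique (hQ : Q.comap (algebraMap R B) = m)
    (huniq : ∀ Q' : Ideal B, Q'.IsPrime → Q'.comap (algebraMap R B) = m → Q' = Q) : Algebra.IsIntegral A S := by
  refine ⟨fun c => ?_⟩
  obtain ⟨⟨b, t⟩, hc⟩ := IsLocalization.surj Q.primeCompl c
  obtain ⟨s, hs, b', hb'⟩ : ∃ s, s ∉ m ∧ ∃ b' : B, (t : B) * b' = algebraMap R B s := by
    by_contra hne
    push Not at hne
    obtain ⟨P, hP, hle, hd⟩ := Ideal.exists_le_prime_disjoint (Ideal.span {(t : B)})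
      (Algebra.algebraMapSubmonoid B m.primeCompl) (Set.disjoint_left.2 fun x hx hxs => by
        obtain ⟨b', rfl⟩ := Ideal.mem_span_singleton'.1 hx
        obtain ⟨s, hs, hs'⟩ := hxs
        exact hne s hs b' (by rw [mul_comm]; exact hs'.symm))
    have hPm : P.comap (algebraMap R B) ≤ m := fun r hr => by_contra fun h' =>
      Set.disjoint_left.1 hd hr ⟨r, h', rfl⟩
    obtain ⟨Q', hQ'P, hQ', hQ'm⟩ := Ideal.exists_ideal_over_prime_of_isIntegral m P hPm
    exact t.2 ((huniq Q' hQ' hQ'm).le (hQ'P (hle (Ideal.mem_span_singleton_self _))))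
  obtain ⟨u, hu⟩ := IsLocalization.map_units A (⟨s, hs⟩ : m.primeCompl)
  have h1 : IsIntegral A (algebraMap B S (b * b')) :=
    ((Algebra.IsIntegral.isIntegral (R := R) (b * b')).map (IsScalarTower.toAlgHom R B S)).tower_top
  have h2 : c * algebraMap A S ↑u = algebraMap B S (b * b') := by
    rw [hu, ← IsScalarTower.algebraMap_apply R A S, IsScalarTower.algebraMap_apply R B S, ← hb', map_mul,
      ← mul_assoc, hc, map_mul]
  have h3 : c = algebraMap A S ↑u⁻¹ * algebraMap B S (b * b') := by
    rw [← h2, mul_left_comm, ← map_mul, Units.inv_mul, map_one, mul_one]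
  exact h3 ▸ isIntegral_algebraMap.mul h1

theorem isPrime_nilradical_of_extension (h : Bir R B) (hQ : Q.comap (algebraMap R B) = m)
    (huniq : ∀ Q' : Ideal B, Q'.IsPrime → Q'.comap (algebraMap R B) = m → Q' = Q) (hS : (nilradical S).IsPrime) :
    (nilradical A).IsPrime := by
  haveI : Nontrivial A := inferInstance
  refine nilradical_isPrime_of_unique A fun ω h1 ω' h2 => ?_
  have key : ∀ ω ∈ minimalPrimes A, ω.comap (algebraMap R A) =
      Ideal.comap (algebraMap R B) ((nilradical S).comap (algebraMap B S)) := by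
    intro ω hω
    haveI := hω.1.1
    have hp : ω.comap (algebraMap R A) ∈ minimalPrimes R := by
      refine ⟨⟨inferInstance, bot_le⟩, fun p hp hle => ?_⟩
      haveI := hp.1
      have hd : Disjoint (m.primeCompl : Set R) p := Set.disjoint_left.2 fun x hx hxp =>
        ((IsLocalization.isPrime_iff_isPrime_disjoint m.primeCompl A ω).1 ‹_›).2.le_bot ⟨hx, hle hxp⟩
      have h2' := IsLocalization.isPrime_of_isPrime_disjoint m.primeCompl A p ‹_› hd
      have h4 := hω.2 ⟨h2', bot_le⟩ (Ideal.map_le_iff_le_comap.2 hle)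
      rw [← IsLocalization.comap_map_of_isPrime_disjoint m.primeCompl A ‹p.IsPrime› hd]
      exact Ideal.comap_mono h4
    obtain ⟨P, hP, hPp⟩ := h.surj _ hp
    have hpm : ω.comap (algebraMap R A) ≤ m := by
      rw [← IsLocalization.AtPrime.comap_maximalIdeal A m]
      exact Ideal.comap_mono (IsLocalRing.le_maximalIdeal hω.1.1.ne_top)
    obtain ⟨Q', hPQ, hQ', hQ'm⟩ := Ideal.exists_ideal_over_prime_of_isIntegral m P (hPp.trans_le hpm)
    have hPQ' : P ≤ Q := hPQ.trans (huniq Q' hQ' hQ'm).le
    have hd : Disjoint (Q.primeCompl : Set B) P := Set.disjoint_left.2 fun x hx hxp => hx (hPQ' hxp)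
    have h2' := IsLocalization.isPrime_of_isPrime_disjoint Q.primeCompl S P hP hd
    have hle : (nilradical S).comap (algebraMap B S) ≤ P :=
      (Ideal.comap_mono (@nilradical_le_prime _ _ _ h2')).trans
        (IsLocalization.comap_map_of_isPrime_disjoint Q.primeCompl S hP hd).le
    have hPmin := h.mem_minimalPrimes hP (hPp.symm ▸ hp)
    rw [← hPp, le_antisymm (hPmin.2 ⟨Ideal.IsPrime.comap _, bot_le⟩ hle) hle]
  rw [← IsLocalization.map_under m.primeCompl A ω, ← IsLocalization.map_under m.primeCompl A ω']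
  exact congrArg (Ideal.map (algebraMap R A)) ((key ω h1).trans (key ω' h2).symm)

/-- The criterion at a prime with a single prime over it. -/
theorem isGeomUnibranch_iff (h : Bir R B) (hQ : Q.comap (algebraMap R B) = m)
    (huniq : ∀ Q' : Ideal B, Q'.IsPrime → Q'.comap (algebraMap R B) = m → Q' = Q)
    (q : ℕ) [ExpChar (ResidueField A) q] :
    CAlg2.IsGeomUnibranch A ↔ CAlg2.IsGeomUnibranch S ∧
      ∀ c : S, ∃ (n : ℕ) (a : A), c ^ q ^ n - algebraMap A S a ∈ maximalIdeal S := by
  haveI := isIntegral_of_unique m A Q S hQ huniq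
  constructor
  · intro hA
    obtain ⟨hS, hnil, hfs⟩ := nil_and_fracSurj m A S Q.primeCompl h ((Ideal.Quotient.isDomain_iff_prime _).1 hA.1.1)
    haveI := hA.1.1
    haveI : IsDomain (CAlg2.red S) := (Ideal.Quotient.isDomain_iff_prime _).2 hS
    exact (isGeomUnibranch_iff_of_birational A S hnil hfs q).1 hA
  · intro hS'
    have hp := isPrime_nilradical_of_extension m A Q S h hQ huniq ((Ideal.Quotient.isDomain_iff_prime _).1 hS'.1.1.1)
    obtain ⟨hS, hnil, hfs⟩ := nil_and_fracSurj m A S Q.primeCompl h hp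
    haveI : IsDomain (CAlg2.red A) := (Ideal.Quotient.isDomain_iff_prime _).2 hp
    haveI : IsDomain (CAlg2.red S) := (Ideal.Quotient.isDomain_iff_prime _).2 hS
    exact (isGeomUnibranch_iff_of_birational A S hnil hfs q).2 hS'

end

end BirUnibLib
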