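import Groth.Agent.BirUnibLib.Point
import Mathlib.FieldTheory.Minpoly.IsIntegrallyClosed
import Mathlib.RingTheory.Spectrum.Prime.Chevalley
import Mathlib.RingTheory.IntegralClosure.GoingDown
import Mathlib.RingTheory.AdjoinRoot
import Mathlib.RingTheory.Finiteness.ModuleFinitePresentation

/-! Openness of integral extensions at points over unibranch primes. -/

set_option autoImplicit false
set_option linter.style.haveILetI false
set_option maxHeartbeats 1000000
universe u

open PrimeSpectrum

noncomputable section

namespace BirUnibLib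

theorem isOpen_image_basicOpen (A C : Type u) [CommRing A] [IsDomain A] [IsIntegrallyClosed A] [CommRing C] [IsDomain C]
    [Algebra A C] [FaithfulSMul A C] [Algebra.IsIntegral A C] (b : C) :
    IsOpen (comap (algebraMap A C) '' (basicOpen b : Set (PrimeSpectrum C))) := by
  let D := Algebra.adjoin A ({b} : Set C)
  have hb : IsIntegral A b := Algebra.IsIntegral.isIntegral b
  haveI : Module.Free A D := .of_basis (Algebra.adjoin.powerBasis' hb).basis
  haveI : Module.Finite A D := (Algebra.adjoin.powerBasis' hb).finite
  haveI : Module.FinitePresentation A D := Module.finitePresentation_of_projective A D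
  haveI : Algebra.FinitePresentation A D := inferInstance
  let b' : D := ⟨b, Algebra.self_mem_adjoin_singleton A b⟩
  haveI : Algebra.IsIntegral D C := Algebra.IsIntegral.tower_top (R := A)
  have hs : Function.Surjective (comap (algebraMap D C)) := fun r => by
    obtain ⟨P, -, hP, hPr⟩ := Ideal.exists_ideal_over_prime_of_isIntegral r.asIdeal (⊥ : Ideal C)
      (by rw [← RingHom.ker_eq_comap_bot,
        (RingHom.injective_iff_ker_eq_bot _).1 (fun x y h => Subtype.ext h : Function.Injective (algebraMap D C))]
          exact bot_le)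
    exact ⟨⟨P, hP⟩, PrimeSpectrum.ext hPr⟩
  have h1 : (basicOpen b : Set (PrimeSpectrum C)) = comap (algebraMap D C) ⁻¹' (basicOpen b' : Set (PrimeSpectrum D)) := by
    ext r
    rfl
  have h2 : comap (algebraMap A C) '' (basicOpen b : Set (PrimeSpectrum C)) =
      comap (algebraMap A D) '' (basicOpen b' : Set (PrimeSpectrum D)) := by
    rw [← Set.image_preimage_eq (basicOpen b' : Set (PrimeSpectrum D)) hs, Set.image_image, ← h1]
    rfl
  rw [h2]
  exact isOpenMap_comap_of_hasGoingDown_of_finitePresentation _ (basicOpen b').isOpen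

theorem isOpenAt_of_isUnibranch {A B : Type u} [CommRing A] [IsDomain A] [CommRing B] [IsDomain B] [Algebra A B]
    (hinj : Function.Injective (algebraMap A B)) [Algebra.IsIntegral A B] (q : PrimeSpectrum B)
    (hA : CAlg2.IsUnibranch (Localization.AtPrime (q.asIdeal.comap (algebraMap A B)))) :
    ∀ U ∈ nhds q, comap (algebraMap A B) '' U ∈ nhds (comap (algebraMap A B) q) := by
  let p := q.asIdeal.comap (algebraMap A B)
  let K := FractionRing A
  let L := FractionRing B
  have hg : Function.Injective (algebraMap A L) := by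
    rw [IsScalarTower.algebraMap_eq A B L]
    exact (IsFractionRing.injective B L).comp hinj
  letI : Algebra K L := (IsFractionRing.lift hg).toAlgebra
  haveI : IsScalarTower A K L := IsScalarTower.of_algebraMap_eq fun a => (IsFractionRing.lift_algebraMap hg a).symm
  let A' := integralClosure A K
  let C := integralClosure A L
  haveI : IsFractionRing A' K := integralClosure.isFractionRing_of_finite_extension K K
  haveI : IsIntegrallyClosed A' := integralClosure.isIntegrallyClosedOfFiniteExtension K
  -- one prime of `A'` over `p`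
  let Ap := Localization.AtPrime p
  letI : Algebra Ap K :=
    (IsLocalization.lift (M := p.primeCompl) (g := algebraMap A K) fun s =>
      (IsFractionRing.to_map_ne_zero_of_mem_nonZeroDivisors (p.primeCompl_le_nonZeroDivisors s.2)).isUnit).toAlgebra
  haveI : IsScalarTower A Ap K := IsScalarTower.of_algebraMap_eq fun a => (IsLocalization.lift_eq _ a).symm
  haveI : IsFractionRing Ap K := IsFractionRing.isFractionRing_of_isDomain_of_isLocalization p.primeCompl Ap K
  obtain ⟨e, -⟩ := BranchLib.exists_equiv (A := Ap) K p (B := A') A'.val.toRingHom Subtype.val_injective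
    (fun r => rfl) inferInstance fun z hz => ⟨⟨z, hz⟩, rfl⟩
  have huniq : ∀ P P' : {Q : Ideal A' // Q.IsPrime ∧ Q.comap (algebraMap A A') = p}, P = P' := fun P P' => by
    haveI := hA.2
    exact e.injective (MaximalSpectrum.ext ((IsLocalRing.eq_maximalIdeal (e P).isMaximal).trans
      (IsLocalRing.eq_maximalIdeal (e P').isMaximal).symm))
  let i : A' →ₐ[A] C := (IsScalarTower.toAlgHom A K L).mapIntegralClosure
  let j : B →ₐ[A] C := (IsScalarTower.toAlgHom A B L).codRestrict C fun b =>
    (Algebra.IsIntegral.isIntegral b).map (IsScalarTower.toAlgHom A B L)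
  letI : Algebra A' C := i.toRingHom.toAlgebra
  haveI : IsScalarTower A A' C := IsScalarTower.of_algebraMap_eq fun a => (i.commutes a).symm
  letI : Algebra B C := j.toRingHom.toAlgebra
  haveI : IsScalarTower A B C := IsScalarTower.of_algebraMap_eq fun a => (j.commutes a).symm
  haveI : Algebra.IsIntegral A' C := Algebra.IsIntegral.tower_top (R := A)
  haveI : Algebra.IsIntegral B C := Algebra.IsIntegral.tower_top (R := A)
  haveI : FaithfulSMul A' C := (faithfulSMul_iff_algebraMap_injective _ _).2 fun x y h =>
    Subtype.ext ((algebraMap K L).injective (congrArg Subtype.val h))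
  have hj : Function.Injective (algebraMap B C) := fun x y h => IsFractionRing.injective B L (congrArg Subtype.val h)
  intro U hU
  obtain ⟨_, ⟨b, rfl⟩, hqb, hbU⟩ := isTopologicalBasis_basic_opens.mem_nhds_iff.1 hU
  obtain ⟨n, -, hn, hnq⟩ := Ideal.exists_ideal_over_prime_of_isIntegral q.asIdeal (⊥ : Ideal C)
    (by rw [← RingHom.ker_eq_comap_bot, (RingHom.injective_iff_ker_eq_bot _).1 hj]; exact bot_le)
  let W := comap (algebraMap A' C) '' (basicOpen (algebraMap B C b) : Set (PrimeSpectrum C))
  have hW : IsOpen W := isOpen_image_basicOpen A' C _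
  let p' : PrimeSpectrum A' := comap (algebraMap A' C) ⟨n, hn⟩
  have hp'W : p' ∈ W := ⟨⟨n, hn⟩, fun h => hqb (by rw [← hnq]; exact h), rfl⟩
  have hp'p : p'.asIdeal.comap (algebraMap A A') = p := by
    show (n.comap (algebraMap A' C)).comap (algebraMap A A') = p
    rw [Ideal.comap_comap, ← IsScalarTower.algebraMap_eq, IsScalarTower.algebraMap_eq A B C, ← Ideal.comap_comap, hnq]
  have hsurj : Function.Surjective (comap (algebraMap A A')) := fun r => by
    obtain ⟨P, -, hP, hPr⟩ := Ideal.exists_ideal_over_prime_of_isIntegral r.asIdeal (⊥ : Ideal A')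
      (by rw [← RingHom.ker_eq_comap_bot, (RingHom.injective_iff_ker_eq_bot _).1
        (fun x y h => IsFractionRing.injective A K (congrArg Subtype.val h) : Function.Injective (algebraMap A A'))]
          exact bot_le)
    exact ⟨⟨P, hP⟩, PrimeSpectrum.ext hPr⟩
  have hZ : IsClosed (comap (algebraMap A A') '' Wᶜ) :=
    PrimeSpectrum.isClosedMap_comap_of_isIntegral _ (algebraMap_isIntegral_iff.mpr inferInstance) _ hW.isClosed_compl
  refine Filter.mem_of_superset (hZ.isOpen_compl.mem_nhds ?_) fun r hr => ?_
  · rintro ⟨P, hP, hPp⟩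
    have := congrArg Subtype.val (huniq ⟨P.asIdeal, P.isPrime, congrArg PrimeSpectrum.asIdeal hPp⟩ ⟨p'.asIdeal, p'.isPrime, hp'p⟩)
    exact hP (PrimeSpectrum.ext this ▸ hp'W)
  · obtain ⟨r', hr'⟩ := hsurj r
    obtain ⟨m, hm, hmr⟩ : r' ∈ W := by
      by_contra h
      exact hr ⟨r', h, hr'⟩
    refine ⟨comap (algebraMap B C) m, hbU hm, ?_⟩
    rw [← hr', ← hmr]
    refine PrimeSpectrum.ext ?_
    simp only [PrimeSpectrum.comap_asIdeal, Ideal.comap_comap, ← IsScalarTower.algebraMap_eq]

end BirUnibLib
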