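import Groth.Agent.BirUnibLib.Criterion
import Groth.Prelude.Def_EGA4Misc
import Mathlib.AlgebraicGeometry.Morphisms.Integral
import Mathlib.FieldTheory.PurelyInseparable.Basic
import Mathlib.RingTheory.RingHom.PurelyInseparable

/-! The geometrically unibranch criterion for integral birational morphisms of schemes. -/

set_option autoImplicit false
set_option linter.style.haveILetI false
set_option maxHeartbeats 1000000
set_option backward.isDefEq.respectTransparency false
universe u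

open CategoryTheory AlgebraicGeometry IsLocalRing Topology

namespace BirUnibLib

noncomputable section

variable {X : Scheme.{u}} {U : X.Opens} (hU : IsAffineOpen U)

theorem exists_point (P : Ideal Γ(X, U)) [hP : P.IsPrime] :
    ∃ (x : X) (hx : x ∈ U), (hU.primeIdealOf ⟨x, hx⟩).asIdeal = P := by
  have hx : hU.fromSpec ⟨P, hP⟩ ∈ U := hU.range_fromSpec.le ⟨_, rfl⟩
  refine ⟨_, hx, ?_⟩
  have h1 := hU.fromSpec_primeIdealOf ⟨_, hx⟩
  have h2 := hU.fromSpec.isOpenEmbedding.injective h1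
  exact congrArg PrimeSpectrum.asIdeal h2

theorem le_iff_specializes {x x' : X} (hx : x ∈ U) (hx' : x' ∈ U) :
    (hU.primeIdealOf ⟨x, hx⟩).asIdeal ≤ (hU.primeIdealOf ⟨x', hx'⟩).asIdeal ↔ x ⤳ x' := by
  rw [show ((hU.primeIdealOf ⟨x, hx⟩).asIdeal ≤ (hU.primeIdealOf ⟨x', hx'⟩).asIdeal) =
      ((hU.primeIdealOf ⟨x, hx⟩ : PrimeSpectrum Γ(X, U)) ≤ hU.primeIdealOf ⟨x', hx'⟩) from rfl,
    PrimeSpectrum.le_iff_specializes]
  refine (hU.fromSpec.isOpenEmbedding.isInducing.specializes_iff).symm.trans ?_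
  rw [hU.fromSpec_primeIdealOf, hU.fromSpec_primeIdealOf]

include hU in
theorem point_inj {x x' : X} (hx : x ∈ U) (hx' : x' ∈ U)
    (e : (hU.primeIdealOf ⟨x, hx⟩).asIdeal = (hU.primeIdealOf ⟨x', hx'⟩).asIdeal) : x = x' := by
  exact (hU.fromSpec_primeIdealOf ⟨x, hx⟩).symm.trans
    ((congrArg hU.fromSpec (PrimeSpectrum.ext e)).trans (hU.fromSpec_primeIdealOf ⟨x', hx'⟩))

theorem genericPoints_iff (x : X) : x ∈ genericPoints X ↔ ∀ y, y ⤳ x → y = x := by
  constructor
  · intro hx y hy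
    have h := hx.eq_of_subset isIrreducible_singleton.closure (specializes_iff_closure_subset.1 hy)
    exact (inseparable_iff_closure_eq.2 h.symm).eq
  · intro h
    obtain ⟨Z, hZ, hxZ⟩ := exists_mem_irreducibleComponents_subset_of_isIrreducible {x} isIrreducible_singleton
    obtain ⟨η, hη⟩ := QuasiSober.sober hZ.1 (isClosed_of_mem_irreducibleComponents Z hZ)
    have : η = x := h η (hη.specializes (hxZ (Set.mem_singleton x) : x ∈ Z))
    subst this
    show closure ({η} : Set X) ∈ irreducibleComponents X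
    rw [hη.def]; exact hZ

theorem minimalPrimes_iff {x : X} (hx : x ∈ U) :
    (hU.primeIdealOf ⟨x, hx⟩).asIdeal ∈ minimalPrimes Γ(X, U) ↔ x ∈ genericPoints X := by
  rw [genericPoints_iff]
  constructor
  · intro hm y hy
    have hyU : y ∈ U := hy.mem_open U.2 hx
    have h1 := (le_iff_specializes hU hyU hx).2 hy
    have h2 := hm.2 ⟨(hU.primeIdealOf ⟨y, hyU⟩).isPrime, bot_le⟩ h1
    exact (inseparable_iff_specializes_and.2 ⟨hy, (le_iff_specializes hU hx hyU).1 h2⟩).eq
  · intro h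
    refine ⟨⟨(hU.primeIdealOf _).isPrime, bot_le⟩, fun P hP hle => ?_⟩
    haveI := hP.1
    obtain ⟨y, hy, rfl⟩ := exists_point hU P
    obtain rfl := h y ((le_iff_specializes hU hy hx).1 hle)
    exact le_rfl

variable {Y : Scheme.{u}} (f : X ⟶ Y) {V : Y.Opens} (hV : IsAffineOpen V) [IsIntegralHom f]

theorem comap_app {x : X} (hx : f x ∈ V) :
    Ideal.comap (f.app V).hom ((hV.preimage f).primeIdealOf ⟨x, hx⟩).asIdeal = (hV.primeIdealOf ⟨f x, hx⟩).asIdeal := by
  have := congrArg PrimeSpectrum.asIdeal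
    (IsAffineOpen.comap_primeIdealOf_appLE (f := f) V hV (f ⁻¹ᵁ V) (hV.preimage f) le_rfl hx)
  simp only [Scheme.Hom.appLE_eq_app] at this
  exact this

include hV in
theorem bir (hf : RadPt.IsBirational f) :
    letI := (f.app V).hom.toAlgebra
    Bir Γ(Y, V) Γ(X, f ⁻¹ᵁ V) := by
  letI := (f.app V).hom.toAlgebra
  have hU := hV.preimage f
  refine ⟨fun P hP => ?_, fun P P' hP hP' hm he => ?_, fun p hp => ?_, fun P hP hm b => ?_⟩
  · haveI := hP.1.1
    obtain ⟨x, hx, rfl⟩ := exists_point hU P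
    rw [minimalPrimes_iff hU] at hP
    rw [RingHom.algebraMap_toAlgebra, comap_app f hV hx, minimalPrimes_iff hV]
    exact hf.1.mapsTo hP
  · obtain ⟨x, hx, rfl⟩ := exists_point hU P
    obtain ⟨x', hx', rfl⟩ := exists_point hU P'
    rw [RingHom.algebraMap_toAlgebra, comap_app f hV hx, minimalPrimes_iff hV] at hm
    rw [RingHom.algebraMap_toAlgebra, comap_app f hV hx, comap_app f hV hx'] at he
    have h1 : f x = f x' := point_inj hV hx hx' he
    obtain rfl := (hf.2 _ hm).1 x x' rfl h1.symm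
    rfl
  · haveI := hp.1.1
    obtain ⟨y, hy, rfl⟩ := exists_point hV p
    rw [minimalPrimes_iff hV] at hp
    obtain ⟨x, -, rfl⟩ := hf.1.surjOn hp
    exact ⟨_, (hU.primeIdealOf ⟨x, hy⟩).isPrime, comap_app f hV hy⟩
  · obtain ⟨x, hx, rfl⟩ := exists_point hU P
    rw [RingHom.algebraMap_toAlgebra, comap_app f hV hx, minimalPrimes_iff hV] at hm
    letI := TopCat.Presheaf.algebra_section_stalk Y.presheaf (⟨f x, hx⟩ : V)
    haveI := hV.isLocalization_stalk ⟨f x, hx⟩
    obtain ⟨z, hz⟩ := ((hf.2 _ hm).2 x rfl).2 (X.residue x (X.presheaf.germ (f ⁻¹ᵁ V) x hx b))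
    obtain ⟨c, rfl⟩ := Ideal.Quotient.mk_surjective z
    obtain ⟨⟨a, s⟩, hc⟩ := IsLocalization.surj (hV.primeIdealOf ⟨f x, hx⟩).asIdeal.primeCompl c
    refine ⟨a, s, ?_, ?_⟩
    · rw [RingHom.algebraMap_toAlgebra, ← Ideal.mem_comap, comap_app f hV hx]
      exact s.2
    · letI := TopCat.Presheaf.algebra_section_stalk X.presheaf (⟨x, hx⟩ : (f ⁻¹ᵁ V : X.Opens))
      haveI := hU.isLocalization_stalk ⟨x, hx⟩
      rw [← IsLocalization.AtPrime.to_map_mem_maximal_iff (X.presheaf.stalk x) (hU.primeIdealOf ⟨x, hx⟩).asIdeal,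
        ← IsLocalRing.residue_eq_zero_iff]
      simp only [map_sub, map_mul, RingHom.algebraMap_toAlgebra]
      have key : ∀ r : Γ(Y, V), X.residue x (X.presheaf.germ (f ⁻¹ᵁ V) x hx (f.app V r)) =
          f.residueFieldMap x (Y.residue (f x) (Y.presheaf.germ V (f x) hx r)) := fun r => by
        rw [← Scheme.Hom.germ_stalkMap_apply]
        exact (congr($(Scheme.residue_residueFieldMap f x) _)).symm
      rw [sub_eq_zero]
      change X.residue x (X.presheaf.germ (f ⁻¹ᵁ V) x hx (f.app V s.1)) *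
        X.residue x (X.presheaf.germ (f ⁻¹ᵁ V) x hx b) = X.residue x (X.presheaf.germ (f ⁻¹ᵁ V) x hx (f.app V a))
      rw [key, key, ← hz, ← map_mul]
      refine congrArg (f.residueFieldMap x).hom ?_
      change IsLocalRing.residue _ _ * IsLocalRing.residue _ c = IsLocalRing.residue _ _
      rw [← map_mul, mul_comm]
      exact congrArg _ hc

/-- Purely inseparable residue extensions, on stalks. -/
theorem residueFieldMap_pi_iff {X Y : Scheme.{u}} (f : X ⟶ Y) (x : X) (q : ℕ)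
    [ExpChar (ResidueField (Y.presheaf.stalk (f x))) q] :
    (f.residueFieldMap x).hom.IsPurelyInseparable ↔
      ∀ c : X.presheaf.stalk x, ∃ (n : ℕ) (a : Y.presheaf.stalk (f x)),
        c ^ q ^ n - f.stalkMap x a ∈ maximalIdeal (X.presheaf.stalk x) := by
  have key : ∀ a, f.residueFieldMap x (IsLocalRing.residue _ a) = IsLocalRing.residue _ (f.stalkMap x a) := fun a =>
    congr($(Scheme.residue_residueFieldMap f x) a)
  haveI : ExpChar (Y.residueField (f x)) q := ‹_›
  algebraize [(f.residueFieldMap x).hom]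
  rw [RingHom.IsPurelyInseparable, isPurelyInseparable_iff_pow_mem (Y.residueField (f x)) q]
  constructor
  · intro h c
    obtain ⟨n, z, hz⟩ := h (IsLocalRing.residue _ c)
    obtain ⟨a, rfl⟩ := Ideal.Quotient.mk_surjective z
    refine ⟨n, a, Ideal.Quotient.eq.1 ?_⟩
    rw [map_pow]
    exact hz.symm.trans (key a)
  · intro h z
    obtain ⟨c, rfl⟩ := Ideal.Quotient.mk_surjective z
    obtain ⟨n, a, ha⟩ := h c
    refine ⟨n, IsLocalRing.residue _ a, (key a).trans ?_⟩
    exact (Ideal.Quotient.eq.2 ha).symm.trans (map_pow _ _ _)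

/-- The criterion at a point. -/
theorem isGeomUnibranch_stalk_iff {X Y : Scheme.{u}} (f : X ⟶ Y) [IsIntegralHom f] (hf : RadPt.IsBirational f) (y : Y) :
    CAlg2.IsGeomUnibranch (Y.presheaf.stalk y) ↔
      RadPt.IsRadicialAt f y ∧ ∀ x : X, f x = y → CAlg2.IsGeomUnibranch (X.presheaf.stalk x) := by
  obtain ⟨_, ⟨V, hV, rfl⟩, hyV, -⟩ := Y.isBasis_affineOpens.exists_subset_of_mem_open (Set.mem_univ y) isOpen_univ
  letI := (f.app V).hom.toAlgebra
  have hU := hV.preimage f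
  haveI : Algebra.IsIntegral Γ(Y, V) Γ(X, f ⁻¹ᵁ V) := ⟨IsIntegralHom.isIntegral_app f V hV⟩
  have hB := bir f hV hf
  let m := (hV.primeIdealOf ⟨y, hyV⟩).asIdeal
  letI := TopCat.Presheaf.algebra_section_stalk Y.presheaf (⟨y, hyV⟩ : V)
  haveI := hV.isLocalization_stalk ⟨y, hyV⟩
  have hover : ∀ (x : X) (hx : f x ∈ V), Ideal.comap (algebraMap Γ(Y, V) Γ(X, f ⁻¹ᵁ V)) (hU.primeIdealOf ⟨x, hx⟩).asIdeal = m ↔
      f x = y := fun x hx => by
    rw [RingHom.algebraMap_toAlgebra, comap_app f hV hx]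
    exact ⟨fun e => point_inj hV hx hyV e,
      fun e => by subst e; rfl⟩
  obtain ⟨Q₀, hQ₀, hQ₀m⟩ := exists_prime_over m hB
  haveI := hQ₀
  obtain ⟨x, hxV, rfl⟩ := exists_point hU Q₀
  obtain rfl := (hover x hxV).1 hQ₀m
  let q := ringExpChar (ResidueField (Y.presheaf.stalk (f x)))
  haveI : ExpChar (ResidueField (Y.presheaf.stalk (f x))) q := inferInstance
  letI := TopCat.Presheaf.algebra_section_stalk X.presheaf (⟨x, hxV⟩ : (f ⁻¹ᵁ V : X.Opens))
  haveI := hU.isLocalization_stalk ⟨x, hxV⟩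
  letI : Algebra Γ(Y, V) (X.presheaf.stalk x) :=
    ((algebraMap Γ(X, f ⁻¹ᵁ V) (X.presheaf.stalk x)).comp (algebraMap Γ(Y, V) Γ(X, f ⁻¹ᵁ V))).toAlgebra
  haveI : IsScalarTower Γ(Y, V) Γ(X, f ⁻¹ᵁ V) (X.presheaf.stalk x) := IsScalarTower.of_algebraMap_eq fun _ => rfl
  letI := (f.stalkMap x).hom.toAlgebra
  haveI : IsScalarTower Γ(Y, V) (Y.presheaf.stalk (f x)) (X.presheaf.stalk x) :=
    IsScalarTower.of_algebraMap_eq fun r => (Scheme.Hom.germ_stalkMap_apply f V x hxV r).symm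
  have crit := fun huniq => isGeomUnibranch_iff m (Y.presheaf.stalk (f x)) (hU.primeIdealOf ⟨x, hxV⟩).asIdeal
    (X.presheaf.stalk x) hB hQ₀m huniq q
  constructor
  · intro hY
    have hu : ∀ x', f x' = f x → x' = x := fun x' e => by
      have hx'V : f x' ∈ V := e.symm ▸ hyV
      have h := fibre_unique m (Y.presheaf.stalk (f x)) hB hY.1 _ _ (hU.primeIdealOf ⟨x', hx'V⟩).isPrime hQ₀
        ((hover x' hx'V).2 e) hQ₀m
      exact point_inj hU hx'V hxV h
    obtain ⟨hX, hpi⟩ := (crit fun Q' hQ' e => by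
      haveI := hQ'
      obtain ⟨x', hx', rfl⟩ := exists_point hU Q'
      obtain rfl := hu x' ((hover x' hx').1 e)
      rfl).1 hY
    refine ⟨⟨fun a b ha hb => (hu a ha).trans (hu b hb).symm, fun a ha => ?_⟩, fun a ha => ?_⟩ <;>
      obtain rfl := hu a ha
    · exact (residueFieldMap_pi_iff f a q).2 hpi
    · exact hX
  · rintro ⟨⟨hinj, hpi⟩, hX⟩
    exact (crit fun Q' hQ' e => by
      haveI := hQ'
      obtain ⟨x', hx', rfl⟩ := exists_point hU Q'
      obtain rfl := hinj x' x ((hover x' hx').1 e) rfl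
      rfl).2 ⟨hX x rfl, (residueFieldMap_pi_iff f x q).1 (hpi x rfl)⟩

end

end BirUnibLib
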