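import Groth.Agent.BirUnibLib.OpenAt
import Groth.Agent.BirUnibLib.Scheme
import Mathlib.AlgebraicGeometry.Morphisms.QuasiFinite
import Mathlib.RingTheory.ZariskisMainTheorem
import Mathlib.RingTheory.Spectrum.Prime.Homeomorph

/-! Openness of quasi-finite dominant morphisms over unibranch points. -/

set_option autoImplicit false
set_option linter.style.haveILetI false
set_option maxHeartbeats 1000000
set_option backward.isDefEq.respectTransparency false
universe u

open CategoryTheory AlgebraicGeometry Topology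

noncomputable section

namespace BirUnibLib

theorem isOpenAt_quasiFinite_domain {A B : Type u} [CommRing A] [IsDomain A] [CommRing B] [IsDomain B] [Algebra A B]
    [Algebra.FiniteType A B] (hinj : Function.Injective (algebraMap A B)) (q : PrimeSpectrum B)
    (hqf : Algebra.QuasiFiniteAt A q.asIdeal)
    (hA : CAlg2.IsUnibranch (Localization.AtPrime (q.asIdeal.comap (algebraMap A B)))) :
    ∀ U ∈ nhds q, PrimeSpectrum.comap (algebraMap A B) '' U ∈ nhds (PrimeSpectrum.comap (algebraMap A B) q) := by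
  obtain ⟨S, hfg, r, hr, hbij⟩ := Algebra.QuasiFiniteAt.exists_fg_and_exists_notMem_and_awayMap_bijective (R := A) q.asIdeal
  haveI : Module.Finite A S := Module.Finite.of_fg hfg
  haveI : Algebra.IsIntegral A S := inferInstance
  intro U hU
  obtain ⟨O, hOU, hO, hqO⟩ := mem_nhds_iff.1 hU
  let ι := PrimeSpectrum.comap S.val.toRingHom
  have hι : IsOpen (ι '' (O ∩ (PrimeSpectrum.basicOpen r.1 : Set (PrimeSpectrum B)))) := by
    let a := Localization.awayMap S.val.toRingHom r
    let ψ := PrimeSpectrum.comap (algebraMap B (Localization.Away (S.val.toRingHom r)))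
    let e := PrimeSpectrum.comap a
    have h1 : O ∩ (PrimeSpectrum.basicOpen r.1 : Set (PrimeSpectrum B)) = ψ '' (ψ ⁻¹' O) := by
      rw [Set.image_preimage_eq_inter_range, PrimeSpectrum.localization_away_comap_range
        (Localization.Away (S.val.toRingHom r)) (S.val.toRingHom r)]
      rfl
    have h2 : ∀ w, ι (ψ w) = PrimeSpectrum.comap (algebraMap S (Localization.Away r)) (e w) := fun w => by
      refine PrimeSpectrum.ext ?_
      simp only [ι, ψ, e, PrimeSpectrum.comap_asIdeal, Ideal.comap_comap]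
      congr 1
      ext s
      simp [a, Localization.awayMap, IsLocalization.Away.map]
    have h3 : IsOpenMap e := (PrimeSpectrum.homeomorphOfRingEquiv (RingEquiv.ofBijective a hbij)).symm.isOpenMap
    rw [h1, Set.image_image]
    simp only [h2]
    rw [← Set.image_image (PrimeSpectrum.comap (algebraMap S (Localization.Away r))) e]
    exact (PrimeSpectrum.localization_away_isOpenEmbedding (Localization.Away r) r).isOpenMap _
      (h3 _ (hO.preimage (PrimeSpectrum.continuous_comap _)))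
  have hnhds : ι '' (O ∩ (PrimeSpectrum.basicOpen r.1 : Set (PrimeSpectrum B))) ∈ nhds (ι q) :=
    hι.mem_nhds ⟨q, ⟨hqO, hr⟩, rfl⟩
  have hS : Function.Injective (algebraMap A S) := fun x y h => hinj (congrArg Subtype.val h)
  refine Filter.mem_of_superset (isOpenAt_of_isUnibranch hS (ι q) hA _ hnhds) ?_
  rintro _ ⟨_, ⟨w, hw, rfl⟩, rfl⟩
  exact ⟨w, hOU hw.1, rfl⟩

theorem isUnibranch_of_surjective (A A' : Type u) [CommRing A] [CommRing A'] [IsLocalRing A] [IsLocalRing A'] [Algebra A A']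
    (hs : Function.Surjective (algebraMap A A')) (hnil : ∀ a, algebraMap A A' a ∈ nilradical A' → a ∈ nilradical A)
    [IsDomain (CAlg2.red A')] (h : CAlg2.IsUnibranch A) : CAlg2.IsUnibranch A' := by
  obtain ⟨hd, hl⟩ := h
  haveI := hd
  haveI := hl
  haveI : Algebra.IsIntegral A A' := ⟨fun c => by obtain ⟨a, rfl⟩ := hs c; exact isIntegral_algebraMap⟩
  obtain ⟨j, hj, -⟩ := exists_normRed_bij A A' hnil fun c => by
    obtain ⟨a, rfl⟩ := hs c
    refine ⟨a, 1, fun hc => ?_, by simp⟩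
    exact ((Ideal.Quotient.isDomain_iff_prime _).1 hd).ne_top ((Ideal.eq_top_iff_one _).2 hc)
  exact ⟨inferInstance, (RingEquiv.ofBijective j hj).isLocalRing⟩

theorem nilradical_prime {X : Scheme.{u}} [IrreducibleSpace X] {U : X.Opens} (hU : IsAffineOpen U) {x : X} (hx : x ∈ U) :
    (nilradical Γ(X, U)).IsPrime ∧ ∃ hη : genericPoint X ∈ U,
      (hU.primeIdealOf ⟨genericPoint X, hη⟩).asIdeal = nilradical Γ(X, U) := by
  haveI : Nontrivial Γ(X, U) := by
    by_contra h
    haveI := not_nontrivial_iff_subsingleton.1 h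
    exact (hU.primeIdealOf ⟨x, hx⟩).isPrime.ne_top ((Ideal.eq_top_iff_one _).2
      (by rw [Subsingleton.elim (1 : Γ(X, U)) 0]; exact zero_mem _))
  have hη : genericPoint X ∈ U :=
    ((genericPoint_spec X).mem_open_set_iff U.2).2 ⟨x, trivial, hx⟩
  have key : ∀ ω ∈ minimalPrimes Γ(X, U), ω = (hU.primeIdealOf ⟨genericPoint X, hη⟩).asIdeal := fun ω hω => by
    haveI := hω.1.1
    obtain ⟨y, hy, rfl⟩ := exists_point hU ω
    rw [minimalPrimes_iff hU, genericPoints_eq_singleton, Set.mem_singleton_iff] at hω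
    subst hω
    rfl
  have hp := nilradical_isPrime_of_unique Γ(X, U) fun ω h ω' h' => (key ω h).trans (key ω' h').symm
  exact ⟨hp, hη, (key _ ⟨⟨hp, bot_le⟩, fun P hP _ => @nilradical_le_prime _ _ P hP.1⟩).symm⟩

theorem isOpenAt_quasiFinite {A B : Type u} [CommRing A] [CommRing B] [Algebra A B] [Algebra.FiniteType A B]
    (hA0 : (nilradical A).IsPrime) (hB0 : (nilradical B).IsPrime)
    (hc : Ideal.comap (algebraMap A B) (nilradical B) = nilradical A) (q : PrimeSpectrum B)
    (hqf : Algebra.QuasiFiniteAt A q.asIdeal)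
    (Ap : Type u) [CommRing Ap] [IsLocalRing Ap] [Algebra A Ap]
    [IsLocalization.AtPrime Ap (q.asIdeal.comap (algebraMap A B))] (hA : CAlg2.IsUnibranch Ap) :
    ∀ U ∈ nhds q, PrimeSpectrum.comap (algebraMap A B) '' U ∈ nhds (PrimeSpectrum.comap (algebraMap A B) q) := by
  let A₁ := A ⧸ nilradical A
  let B₁ := B ⧸ nilradical B
  haveI : IsDomain A₁ := (Ideal.Quotient.isDomain_iff_prime _).2 hA0
  haveI : IsDomain B₁ := (Ideal.Quotient.isDomain_iff_prime _).2 hB0
  letI : Algebra A₁ B₁ := (Ideal.quotientMap (nilradical B) (algebraMap A B) hc.ge).toAlgebra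
  haveI : IsScalarTower A A₁ B₁ := IsScalarTower.of_algebraMap_eq fun a => rfl
  have hinj : Function.Injective (algebraMap A₁ B₁) := Ideal.quotientMap_injective' hc.le
  haveI : Algebra.FiniteType A₁ B₁ := Algebra.FiniteType.of_restrictScalars_finiteType A A₁ B₁
  let q₁ : PrimeSpectrum B₁ := ⟨q.asIdeal.map (Ideal.Quotient.mk (nilradical B)),
    Ideal.map_isPrime_of_surjective Ideal.Quotient.mk_surjective
      (by rw [Ideal.mk_ker]; exact nilradical_le_prime _)⟩
  have hq₁ : q₁.asIdeal.comap (Ideal.Quotient.mk (nilradical B)) = q.asIdeal := by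
    rw [Ideal.comap_map_of_surjective _ Ideal.Quotient.mk_surjective, ← RingHom.ker_eq_comap_bot, Ideal.mk_ker,
      sup_eq_left.2 (nilradical_le_prime _)]
  haveI := hqf
  haveI := q₁.isPrime
  haveI : q₁.asIdeal.LiesOver q.asIdeal := ⟨hq₁.symm⟩
  haveI : Algebra.QuasiFiniteAt A q₁.asIdeal :=
    Algebra.QuasiFiniteAt.of_surjectiveOnStalks_of_liesOver q.asIdeal
      (RingHom.surjectiveOnStalks_of_surjective Ideal.Quotient.mk_surjective) q₁.asIdeal
  haveI : Algebra.QuasiFiniteAt A₁ q₁.asIdeal := Algebra.QuasiFinite.of_restrictScalars A A₁ _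
  let p := q.asIdeal.comap (algebraMap A B)
  let p₁ := q₁.asIdeal.comap (algebraMap A₁ B₁)
  have hp₁ : p₁.comap (Ideal.Quotient.mk (nilradical A)) = p := by
    show Ideal.comap _ (Ideal.comap (algebraMap A₁ B₁) q₁.asIdeal) = Ideal.comap (algebraMap A B) q.asIdeal
    rw [← hq₁, Ideal.comap_comap, Ideal.comap_comap]
    rfl
  haveI : p₁.IsPrime := Ideal.IsPrime.comap _
  let g : Ap →+* Localization.AtPrime p₁ :=
    IsLocalization.map (M := p.primeCompl) (T := p₁.primeCompl) _ (Ideal.Quotient.mk (nilradical A))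
      (fun s hs h => hs (hp₁ ▸ h))
  letI : Algebra Ap (Localization.AtPrime p₁) := g.toAlgebra
  have hg : Function.Surjective g := fun z => by
    obtain ⟨⟨a, t⟩, ht⟩ := IsLocalization.surj p₁.primeCompl z
    obtain ⟨a, rfl⟩ := Ideal.Quotient.mk_surjective a
    obtain ⟨t₀, ht₀⟩ := Ideal.Quotient.mk_surjective (t : A₁)
    have h0 : t₀ ∈ p.primeCompl := fun h => t.2 (ht₀ ▸ (hp₁.symm ▸ h : t₀ ∈ p₁.comap _))
    obtain ⟨v, hv⟩ := IsLocalization.map_units Ap (⟨t₀, h0⟩ : p.primeCompl)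
    refine ⟨algebraMap A Ap a * ↑v⁻¹, (IsLocalization.map_units (Localization.AtPrime p₁) t).mul_right_cancel ?_⟩
    have h1 : g (algebraMap A Ap t₀) = algebraMap A₁ _ (t : A₁) := by
      rw [IsLocalization.map_eq, ht₀]
    rw [ht, ← h1, ← map_mul, mul_assoc, ← show (v : Ap) = algebraMap A Ap t₀ from hv, Units.inv_mul, mul_one,
      IsLocalization.map_eq]
  haveI : IsDomain (Localization.AtPrime p₁) :=
    IsLocalization.isDomain_of_le_nonZeroDivisors _ p₁.primeCompl_le_nonZeroDivisors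
  have hnil₀ : nilradical (Localization.AtPrime p₁) = ⊥ := nilradical_eq_zero _
  haveI : IsDomain (CAlg2.red (Localization.AtPrime p₁)) :=
    (Ideal.Quotient.isDomain_iff_prime _).2 (hnil₀ ▸ Ideal.isPrime_bot)
  have hu : CAlg2.IsUnibranch (Localization.AtPrime p₁) := by
    refine isUnibranch_of_surjective Ap _ hg (fun z hz => ?_) hA
    obtain ⟨⟨a, t⟩, ht⟩ := IsLocalization.surj p.primeCompl z
    have h1 : g (algebraMap A Ap a) = 0 := by
      rw [← ht, map_mul, show g z = 0 from hnil₀.le hz, zero_mul]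
    rw [IsLocalization.map_eq, IsLocalization.to_map_eq_zero_iff _ p₁.primeCompl_le_nonZeroDivisors,
      Ideal.Quotient.eq_zero_iff_mem] at h1
    have h2 : algebraMap A Ap a ∈ nilradical Ap := mem_nilradical.2 ((mem_nilradical.1 h1).map _)
    rw [← ht] at h2
    exact (Ideal.mul_unit_mem_iff_mem _ (IsLocalization.map_units Ap t)).1 h2
  let π := PrimeSpectrum.comap (Ideal.Quotient.mk (nilradical B))
  let π' := PrimeSpectrum.comap (Ideal.Quotient.mk (nilradical A))
  have hπ' : π' '' (Set.univ) = Set.univ ∧ IsOpenMap π' := by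
    have hh : IsHomeomorph π' := PrimeSpectrum.isHomeomorph_comap (Ideal.Quotient.mk (nilradical A)) (fun y => by
        obtain ⟨a, rfl⟩ := Ideal.Quotient.mk_surjective y
        exact ⟨1, one_pos, a, by rw [pow_one]⟩)
      (by rw [Ideal.mk_ker])
    exact ⟨Set.image_univ.trans hh.surjective.range_eq, hh.isOpenMap⟩
  intro U hU
  have h4 := isOpenAt_quasiFinite_domain hinj q₁ inferInstance hu (π ⁻¹' U)
    ((PrimeSpectrum.continuous_comap _).continuousAt (show U ∈ nhds (π q₁) from (show π q₁ = q from PrimeSpectrum.ext hq₁).symm ▸ hU))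
  have h5 : PrimeSpectrum.comap (algebraMap A B) q = π' (PrimeSpectrum.comap (algebraMap A₁ B₁) q₁) :=
    PrimeSpectrum.ext hp₁.symm
  rw [h5]
  refine Filter.mem_of_superset (hπ'.2.image_mem_nhds h4) ?_
  rintro _ ⟨_, ⟨w, hw, rfl⟩, rfl⟩
  refine ⟨π w, hw, PrimeSpectrum.ext ?_⟩
  simp only [π, π', PrimeSpectrum.comap_asIdeal, Ideal.comap_comap]
  rfl

theorem isOpenAt_of_isUnibranch_scheme {X Y : Scheme.{u}} (f : X ⟶ Y) [IrreducibleSpace X] [IrreducibleSpace Y]
    [LocallyOfFiniteType f] (hdom : DenseRange f) (x : X) (hx : nhdsWithin x (f ⁻¹' {f x}) = pure x)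
    (hu : CAlg2.IsUnibranch (Y.presheaf.stalk (f x))) : ∀ N ∈ nhds x, f '' N ∈ nhds (f x) := by
  have hqf : f.QuasiFiniteAt x := by
    rw [Scheme.Hom.quasiFiniteAt_iff_isOpen_singleton_asFiber, ← (f.fiberHomeo (f x)).isOpen_image]
    simp only [Set.image_singleton, Scheme.Hom.asFiber, Homeomorph.apply_symm_apply]
    rw [isOpen_singleton_iff_nhds_eq_pure]
    refine Filter.map_injective (m := Subtype.val) Subtype.val_injective ?_
    rw [← nhdsWithin_eq_map_subtype_coe (show x ∈ f ⁻¹' {f x} from rfl), hx, Filter.map_pure]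
  obtain ⟨_, ⟨V, hV, rfl⟩, hyV, -⟩ := Y.isBasis_affineOpens.exists_subset_of_mem_open (Set.mem_univ (f x)) isOpen_univ
  obtain ⟨_, ⟨U, hU, rfl⟩, hxU, hUV⟩ :=
    X.isBasis_affineOpens.exists_subset_of_mem_open (show x ∈ f ⁻¹ᵁ V from hyV) (f ⁻¹ᵁ V).2
  let φ := f.appLE V U hUV
  letI := φ.hom.toAlgebra
  haveI : Algebra.FiniteType Γ(Y, V) Γ(X, U) :=
    RingHom.finiteType_algebraMap.1 (HasRingHomProperty.appLE @LocallyOfFiniteType f inferInstance ⟨V, hV⟩ ⟨U, hU⟩ hUV)
  obtain ⟨hB0, hηU, hηB⟩ := nilradical_prime hU hxU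
  obtain ⟨hA0, hηV, hηA⟩ := nilradical_prime hV hyV
  have hfη : f (genericPoint X) = genericPoint Y := by
    refine IsGenericPoint.eq ?_ (genericPoint_spec Y)
    show closure {f (genericPoint X)} = Set.univ
    refine Set.eq_univ_of_univ_subset ((hdom.closure_range).symm.subset.trans (closure_minimal ?_ isClosed_closure))
    rintro _ ⟨z, rfl⟩
    exact ((genericPoint_spec X).specializes trivial |>.map f.continuous).mem_closure
  have hcomap : ∀ (z : X) (hz : z ∈ U), Ideal.comap (algebraMap Γ(Y, V) Γ(X, U)) (hU.primeIdealOf ⟨z, hz⟩).asIdeal =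
      (hV.primeIdealOf ⟨f z, hUV hz⟩).asIdeal := fun z hz =>
    congrArg PrimeSpectrum.asIdeal (IsAffineOpen.comap_primeIdealOf_appLE (f := f) V hV U hU hUV hz)
  have hc : Ideal.comap (algebraMap Γ(Y, V) Γ(X, U)) (nilradical Γ(X, U)) = nilradical Γ(Y, V) := by
    rw [← hηB, hcomap, ← hηA]
    congr
  let q := hU.primeIdealOf ⟨x, hxU⟩
  letI := TopCat.Presheaf.algebra_section_stalk Y.presheaf (⟨f x, hyV⟩ : V)
  haveI : IsLocalization.AtPrime (Y.presheaf.stalk (f x)) (Ideal.comap (algebraMap Γ(Y, V) Γ(X, U)) q.asIdeal) := by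
    have he : Ideal.comap (algebraMap Γ(Y, V) Γ(X, U)) q.asIdeal = (hV.primeIdealOf ⟨f x, hyV⟩).asIdeal := hcomap x hxU
    convert hV.isLocalization_stalk ⟨f x, hyV⟩ using 2
  have hq : Algebra.QuasiFiniteAt Γ(Y, V) q.asIdeal := hqf.quasiFiniteAt hU hV hUV hxU
  intro N hN
  have h1 := isOpenAt_quasiFinite hA0 hB0 hc q hq (Y.presheaf.stalk (f x)) hu (hU.fromSpec ⁻¹' N)
    (hU.fromSpec.continuous.continuousAt (show N ∈ nhds (hU.fromSpec q) from (hU.fromSpec_primeIdealOf ⟨x, hxU⟩).symm ▸ hN))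
  have h2 := hV.fromSpec.isOpenEmbedding.isOpenMap.image_mem_nhds h1
  have h3 : ∀ w : PrimeSpectrum Γ(X, U),
      hV.fromSpec (PrimeSpectrum.comap (algebraMap Γ(Y, V) Γ(X, U)) w) = f (hU.fromSpec w) := fun w => by
    show (Spec.map φ ≫ hV.fromSpec) w = _
    rw [IsAffineOpen.SpecMap_appLE_fromSpec (f := f) hV hU hUV]
    rfl
  rw [h3, hU.fromSpec_primeIdealOf] at h2
  refine Filter.mem_of_superset h2 ?_
  rintro _ ⟨_, ⟨w, hw, rfl⟩, rfl⟩
  exact ⟨_, hw, (h3 w).symm⟩

end BirUnibLib
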