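import Groth.Agent.BirUnibLib.Local
import Mathlib.RingTheory.Localization.AtPrime.Basic

/-! The geometrically unibranch criterion at a prime of the base of an integral birational extension. -/

set_option autoImplicit false
set_option linter.style.haveILetI false
set_option maxHeartbeats 1000000
universe u

open IsLocalRing

namespace BirUnibLib

noncomputable section

theorem nilradical_isPrime_of_unique (S : Type u) [CommRing S] [Nontrivial S]
    (h : ∀ ω ∈ minimalPrimes S, ∀ ω' ∈ minimalPrimes S, ω = ω') : (nilradical S).IsPrime := by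
  obtain ⟨⟨ω, hω⟩⟩ : Nonempty (minimalPrimes S) := Ideal.nonempty_minimalPrimes (I := (⊥ : Ideal S)) bot_ne_top
  have : nilradical S = ω := le_antisymm (@nilradical_le_prime _ _ ω hω.1.1) fun x hx => by
    show x ∈ (⊥ : Ideal S).radical
    rw [← Ideal.sInf_minimalPrimes, Ideal.mem_sInf]
    exact fun {ω'} hω' => h ω hω ω' hω' ▸ hx
  exact this.symm ▸ hω.1.1

variable (R B : Type u) [CommRing R] [CommRing B] [Algebra R B]

/-- The point-and-residue-field form of birationality. -/
structure Bir : Prop where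
  min : ∀ P ∈ minimalPrimes B, Ideal.comap (algebraMap R B) P ∈ minimalPrimes R
  uniq : ∀ P P' : Ideal B, P.IsPrime → P'.IsPrime → Ideal.comap (algebraMap R B) P ∈ minimalPrimes R →
    Ideal.comap (algebraMap R B) P = Ideal.comap (algebraMap R B) P' → P = P'
  surj : ∀ p ∈ minimalPrimes R, ∃ P : Ideal B, P.IsPrime ∧ Ideal.comap (algebraMap R B) P = p
  res : ∀ P : Ideal B, P.IsPrime → Ideal.comap (algebraMap R B) P ∈ minimalPrimes R →
    ∀ b : B, ∃ a s : R, algebraMap R B s ∉ P ∧ algebraMap R B s * b - algebraMap R B a ∈ P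

variable {R B}

theorem Bir.mem_minimalPrimes (h : Bir R B) {P : Ideal B} (hP : P.IsPrime)
    (hp : Ideal.comap (algebraMap R B) P ∈ minimalPrimes R) : P ∈ minimalPrimes B := by
  obtain ⟨P', hP', hle⟩ := Ideal.exists_minimalPrimes_le (I := (⊥ : Ideal B)) (J := P) bot_le
  have h1 : Ideal.comap (algebraMap R B) P' = Ideal.comap (algebraMap R B) P :=
    le_antisymm (Ideal.comap_mono hle) (hp.2 (h.min P' hP').1 (Ideal.comap_mono hle))
  exact h.uniq P P' hP hP'.1.1 hp h1.symm ▸ hP'

variable (m : Ideal R) [m.IsPrime] (A : Type u) [CommRing A] [Algebra R A] [IsLocalization.AtPrime A m]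

theorem exists_prime_over [Algebra.IsIntegral R B] (h : Bir R B) :
    ∃ Q : Ideal B, Q.IsPrime ∧ Ideal.comap (algebraMap R B) Q = m := by
  obtain ⟨p, hp, hpm⟩ := Ideal.exists_minimalPrimes_le (I := (⊥ : Ideal R)) (J := m) bot_le
  obtain ⟨P, hP, hPp⟩ := h.surj p hp
  haveI := hP
  obtain ⟨Q, -, hQ, hQm⟩ := Ideal.exists_ideal_over_prime_of_isIntegral m P (hPp.trans_le hpm)
  exact ⟨Q, hQ, hQm⟩

theorem minimal_le_iff (hA : (nilradical A).IsPrime) {p : Ideal R} (hp : p ∈ minimalPrimes R) :
    p ≤ m ↔ p = (nilradical A).comap (algebraMap R A) := by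
  constructor
  · intro hle
    haveI := hp.1.1
    have hd : Disjoint (m.primeCompl : Set R) p := Set.disjoint_left.2 fun x hx hxp => hx (hle hxp)
    have h1 : (p.map (algebraMap R A)).IsPrime := IsLocalization.isPrime_of_isPrime_disjoint m.primeCompl A p ‹_› hd
    have h2 : (p.map (algebraMap R A)).comap (algebraMap R A) = p :=
      IsLocalization.comap_map_of_isPrime_disjoint m.primeCompl A ‹_› hd
    have h3 : (nilradical A).comap (algebraMap R A) ≤ p :=
      (Ideal.comap_mono (@nilradical_le_prime _ _ _ h1)).trans h2.le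
    exact le_antisymm (hp.2 ⟨Ideal.IsPrime.comap _, bot_le⟩ h3) h3
  · rintro rfl
    haveI : IsLocalRing A := IsLocalization.AtPrime.isLocalRing A m
    calc (nilradical A).comap (algebraMap R A) ≤ (maximalIdeal A).comap (algebraMap R A) :=
          Ideal.comap_mono (nilradical_le_prime _)
      _ = m := IsLocalization.AtPrime.comap_maximalIdeal A m

variable (S : Type u) [CommRing S] [Algebra B S] [Algebra R S] [Algebra A S] [IsScalarTower R A S]
  [IsScalarTower R B S] (M : Submonoid B) [IsLocalization M S]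

theorem comap_comap_S (ω : Ideal S) : Ideal.comap (algebraMap R B) (ω.comap (algebraMap B S)) =
    Ideal.comap (algebraMap R A) (ω.comap (algebraMap A S)) := by
  rw [Ideal.comap_comap, Ideal.comap_comap, ← IsScalarTower.algebraMap_eq, ← IsScalarTower.algebraMap_eq]

include m M in
theorem nil_and_fracSurj [Nontrivial S] [IsLocalRing A] (h : Bir R B) (hA : (nilradical A).IsPrime) :
    (nilradical S).IsPrime ∧ (∀ a : A, algebraMap A S a ∈ nilradical S → a ∈ nilradical A) ∧ FracSurj A S := by
  let p := (nilradical A).comap (algebraMap R A)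
  have hω : ∀ ω ∈ minimalPrimes S, ω.comap (algebraMap B S) ∈ minimalPrimes B ∧
      Ideal.comap (algebraMap R B) (ω.comap (algebraMap B S)) = p := fun ω hω => by
    have h1 : ω.comap (algebraMap B S) ∈ minimalPrimes B := by
      haveI := hω.1.1
      refine ⟨⟨inferInstance, bot_le⟩, fun P' hP' hle => ?_⟩
      haveI := hP'.1
      have hd : Disjoint (M : Set B) P' := Set.disjoint_left.2 fun x hx hxp =>
        ((IsLocalization.isPrime_iff_isPrime_disjoint M S ω).1 ‹_›).2.le_bot ⟨hx, hle hxp⟩
      have h2 : (P'.map (algebraMap B S)).IsPrime := IsLocalization.isPrime_of_isPrime_disjoint M S P' ‹_› hd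
      have h3 : P'.map (algebraMap B S) ≤ ω := Ideal.map_le_iff_le_comap.2 hle
      have h4 := hω.2 ⟨h2, bot_le⟩ h3
      rw [← IsLocalization.comap_map_of_isPrime_disjoint M S ‹P'.IsPrime› hd]
      exact Ideal.comap_mono h4
    refine ⟨h1, (minimal_le_iff m A hA (h.min _ h1)).1 ?_⟩
    rw [comap_comap_S A S]
    calc Ideal.comap (algebraMap R A) (ω.comap (algebraMap A S))
        ≤ Ideal.comap (algebraMap R A) (maximalIdeal A) := Ideal.comap_mono (IsLocalRing.le_maximalIdeal
          (Ideal.comap_ne_top _ hω.1.1.ne_top))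
      _ = m := IsLocalization.AtPrime.comap_maximalIdeal A m
  have hS : (nilradical S).IsPrime := nilradical_isPrime_of_unique S fun ω h1 ω' h2 => by
    have := h.uniq _ _ (hω ω h1).1.1.1 (hω ω' h2).1.1.1 ((h.min _ (hω ω h1).1)) ((hω ω h1).2.trans (hω ω' h2).2.symm)
    rw [← IsLocalization.map_under M S ω, ← IsLocalization.map_under M S ω']
    exact congrArg (Ideal.map (algebraMap B S)) this
  have hmin : nilradical S ∈ minimalPrimes S :=
    ⟨⟨hS, bot_le⟩, fun ω hω' _ => @nilradical_le_prime _ _ ω hω'.1⟩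
  obtain ⟨hPmin, hPp⟩ := hω _ hmin
  refine ⟨hS, fun a ha => ?_, fun c => ?_⟩
  · obtain ⟨⟨r, t⟩, hrt⟩ := IsLocalization.surj m.primeCompl a
    have h1 : algebraMap R A r ∈ (nilradical S).comap (algebraMap A S) := by
      rw [← hrt, Ideal.mem_comap, map_mul]
      exact Ideal.mul_mem_right _ _ ha
    rw [← Ideal.mem_comap, ← comap_comap_S (R := R) (B := B) A S, hPp] at h1
    change algebraMap R A r ∈ nilradical A at h1
    rw [← hrt] at h1
    refine (hA.mem_or_mem h1).resolve_right fun hc => hA.ne_top ?_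
    exact Ideal.eq_top_of_isUnit_mem _ hc (IsLocalization.map_units A t)
  · obtain ⟨⟨b, t⟩, hbt⟩ := IsLocalization.surj M c
    set P := (nilradical S).comap (algebraMap B S)
    have hPc : Ideal.comap (algebraMap R B) P ∈ minimalPrimes R := h.min _ hPmin
    obtain ⟨a, s, hs, hab⟩ := h.res P hPmin.1.1 hPc b
    obtain ⟨a', s', hs', hab'⟩ := h.res P hPmin.1.1 hPc (t : B)
    have ht : (t : B) ∉ P := fun hc => hS.ne_top (Ideal.eq_top_of_isUnit_mem _ hc (IsLocalization.map_units S t))
    have ha' : algebraMap R B a' ∉ P := fun hc => by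
      have h2 := P.add_mem hab' hc
      rw [sub_add_cancel] at h2
      exact (hPmin.1.1.mem_or_mem h2).elim hs' ht
    refine ⟨algebraMap R A (a * s'), algebraMap R A (s * a'), fun hc => ?_, ?_⟩
    · have h1 : s * a' ∈ Ideal.comap (algebraMap R B) P := by rw [hPp]; exact hc
      rw [Ideal.mem_comap, map_mul] at h1
      exact (hPmin.1.1.mem_or_mem h1).elim hs ha'
    · refine (hS.mem_or_mem (x := algebraMap B S t) ?_).resolve_left ht
      rw [← IsScalarTower.algebraMap_apply R A S, ← IsScalarTower.algebraMap_apply R A S,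
        IsScalarTower.algebraMap_apply R B S, IsScalarTower.algebraMap_apply R B S, mul_sub, mul_left_comm,
        mul_comm (algebraMap B S t) c, hbt, ← map_mul, ← map_mul, ← map_sub]
      show _ ∈ P
      convert P.sub_mem (P.mul_mem_left (algebraMap R B a') hab) (P.mul_mem_left (algebraMap R B a) hab') using 1
      simp only [map_mul]
      ring

end

end BirUnibLib
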