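import Groth.Prelude.Def_EGA4Misc
import Mathlib

/-! Radicial at a point, tested on field valued points. -/

set_option autoImplicit false
set_option linter.style.haveILetI false
set_option maxHeartbeats 1000000
set_option backward.isDefEq.respectTransparency false
universe u

open CategoryTheory AlgebraicGeometry TensorProduct

namespace BirUnibLib

noncomputable section

/-- Morphism `Spec K ⟶ X` from a point and an embedding. -/
abbrev pt (X : Scheme.{u}) {K : Type u} [Field K] (x : X) (φ : X.residueField x ⟶ CommRingCat.of K) :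
    Spec (CommRingCat.of K) ⟶ X :=
  Spec.map φ ≫ X.fromSpecResidueField x

theorem exists_pt {X : Scheme.{u}} {K : Type u} [Field K] (g : Spec (CommRingCat.of K) ⟶ X) :
    ∃ (x : X) (φ : X.residueField x ⟶ CommRingCat.of K), g = pt X x φ :=
  ⟨_, _, ((X.SpecToEquivOfField K).symm_apply_apply g).symm⟩

theorem pt_apply {X : Scheme.{u}} {K : Type u} [Field K] (x : X) (φ : X.residueField x ⟶ CommRingCat.of K)
    (s : Spec (CommRingCat.of K)) : pt X x φ s = x := by
  rw [Scheme.Hom.comp_apply, Scheme.fromSpecResidueField_apply]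

theorem pt_comp {X Y : Scheme.{u}} (f : X ⟶ Y) {K : Type u} [Field K] (x : X)
    (φ : X.residueField x ⟶ CommRingCat.of K) : pt X x φ ≫ f = pt Y (f x) (f.residueFieldMap x ≫ φ) := by
  simp only [pt, Spec.map_comp, Category.assoc, Scheme.Hom.SpecMap_residueFieldMap_fromSpecResidueField]

theorem pt_inj {X : Scheme.{u}} {K : Type u} [Field K] (x : X) (φ ψ : X.residueField x ⟶ CommRingCat.of K)
    (h : pt X x φ = pt X x ψ) : φ = ψ :=
  Spec.map_inj.1 ((cancel_mono (X.fromSpecResidueField x)).1 h)

/-- Two field extensions sit in a common one. -/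
theorem exists_common_field {k K L : Type u} [Field k] [Field K] [Field L] (a : k →+* K) (b : k →+* L) :
    ∃ (M : Type u) (_ : Field M) (i : K →+* M) (j : L →+* M), i.comp a = j.comp b := by
  letI := a.toAlgebra
  letI := b.toAlgebra
  obtain ⟨m, hm⟩ := Ideal.exists_maximal (K ⊗[k] L)
  letI := Ideal.Quotient.field m
  refine ⟨_, inferInstance, (Ideal.Quotient.mk m).comp Algebra.TensorProduct.includeLeftRingHom,
    (Ideal.Quotient.mk m).comp (Algebra.TensorProduct.includeRight (R := k) (A := K) (B := L)).toRingHom, ?_⟩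
  ext c
  exact congrArg (Ideal.Quotient.mk m)
    (((Algebra.TensorProduct.includeLeft (R := k) (S := k) (A := K) (B := L)).commutes c).trans
      ((Algebra.TensorProduct.includeRight (R := k) (A := K) (B := L)).commutes c).symm)

theorem cancel_field {X : Scheme.{u}} {K L : Type u} [Field K] [Field L] (i : K →+* L)
    (g g' : Spec (CommRingCat.of K) ⟶ X)
    (h : Spec.map (CommRingCat.ofHom i) ≫ g = Spec.map (CommRingCat.ofHom i) ≫ g') : g = g' := by
  obtain ⟨x, φ, rfl⟩ := exists_pt g
  obtain ⟨x', φ', rfl⟩ := exists_pt g'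
  obtain rfl : x = x' := by
    have h2 : (Spec.map (CommRingCat.ofHom i) ≫ pt X x φ) (IsLocalRing.closedPoint L) =
        (Spec.map (CommRingCat.ofHom i) ≫ pt X x' φ') (IsLocalRing.closedPoint L) := by rw [h]
    simp only [pt, Scheme.Hom.comp_apply, Scheme.fromSpecResidueField_apply] at h2
    exact h2
  rw [← Category.assoc, ← Category.assoc, ← Spec.map_comp, ← Spec.map_comp] at h
  have h3 := pt_inj x _ _ h
  congr 2
  exact CommRingCat.hom_ext (RingHom.ext fun z => i.injective (congr($(h3).hom z)))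

/-- Lift a field valued point through a point over it. -/
theorem exists_lift {X Y : Scheme.{u}} (f : X ⟶ Y) {K : Type u} [Field K] (g : Spec (CommRingCat.of K) ⟶ Y) (x : X)
    (hx : g (IsLocalRing.closedPoint K) = f x) :
    ∃ (L : Type u) (_ : Field L) (i : K →+* L) (g' : Spec (CommRingCat.of L) ⟶ X),
      g' ≫ f = Spec.map (CommRingCat.ofHom i) ≫ g ∧ ∀ s, g' s = x := by
  obtain ⟨y, φ, rfl⟩ := exists_pt g
  rw [pt_apply] at hx
  subst hx
  obtain ⟨L, hL, i, j, hij⟩ := exists_common_field φ.hom (f.residueFieldMap x).hom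
  refine ⟨L, hL, i, pt X x (CommRingCat.ofHom j), ?_, pt_apply x _⟩
  rw [pt_comp, ← Category.assoc, ← Spec.map_comp]
  exact congrArg (pt Y (f x)) (CommRingCat.hom_ext hij.symm)

theorem exists_pair_field {K L : Type u} [Field K] [Field L] (k : Type u) [Field k] (a : k →+* K) (b : k →+* L) :
    ∃ (M : Type u) (_ : Field M) (i : CommRingCat.of K ⟶ CommRingCat.of M) (j : CommRingCat.of L ⟶ CommRingCat.of M),
      CommRingCat.ofHom a ≫ i = CommRingCat.ofHom b ≫ j := by
  obtain ⟨M, hM, i, j, h⟩ := exists_common_field a b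
  exact ⟨M, hM, CommRingCat.ofHom i, CommRingCat.ofHom j, CommRingCat.hom_ext h⟩

/-- Radicial at a point, on field valued points. -/
theorem isRadicialAt_iff {X Y : Scheme.{u}} (f : X ⟶ Y) (y : Y) :
    RadPt.IsRadicialAt f y ↔ ∀ (K : Type u) [Field K] (g₁ g₂ : Spec (CommRingCat.of K) ⟶ X), g₁ ≫ f = g₂ ≫ f →
      (∀ s, f (g₁ s) = y) → g₁ = g₂ := by
  constructor
  · intro h K _ g₁ g₂ hg hy
    obtain ⟨x, φ, rfl⟩ := exists_pt g₁
    obtain ⟨x', φ', rfl⟩ := exists_pt g₂
    have h1 := hy (IsLocalRing.closedPoint K)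
    rw [pt_apply] at h1
    obtain rfl : x = x' := h.1 x x' h1 (by
      have h2 : (pt X x φ ≫ f) (IsLocalRing.closedPoint K) = (pt X x' φ' ≫ f) (IsLocalRing.closedPoint K) := by rw [hg]
      simp only [pt, Scheme.Hom.comp_apply, Scheme.fromSpecResidueField_apply] at h2
      exact h2 ▸ h1)
    rw [pt_comp, pt_comp] at hg
    have h3 := pt_inj (f x) _ _ hg
    have hp := h.2 x h1
    algebraize [(f.residueFieldMap x).hom]
    rw [show φ = φ' from CommRingCat.hom_ext (IsPurelyInseparable.injective_comp_algebraMap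
      (Y.residueField (f x)) (X.residueField x) _ congr($(h3).hom))]
  · intro h
    refine ⟨fun x x' hx hx' => ?_, fun x hx => ?_⟩
    · obtain ⟨L, hL, i, g', hg', hs⟩ := exists_lift f (pt Y y (𝟙 _)) x (by rw [pt_apply, hx])
      obtain ⟨M, hM, j, g'', hg'', hs'⟩ := exists_lift f (Spec.map (CommRingCat.ofHom i) ≫ pt Y y (𝟙 _)) x' (by
        rw [Scheme.Hom.comp_apply, pt_apply, hx'])
      have e := h M (Spec.map (CommRingCat.ofHom j) ≫ g') g'' (by rw [Category.assoc, hg', hg''])
        (fun s => by rw [Scheme.Hom.comp_apply, hs, hx])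
      have h2 : (Spec.map (CommRingCat.ofHom j) ≫ g') (IsLocalRing.closedPoint M) = g'' (IsLocalRing.closedPoint M) := by rw [e]
      rwa [Scheme.Hom.comp_apply, hs, hs'] at h2
    · algebraize [(f.residueFieldMap x).hom]
      rw [RingHom.IsPurelyInseparable, isPurelyInseparable_iff_subsingleton_emb, subsingleton_iff]
      intro σ₁ σ₂
      refine AlgHom.coe_ringHom_injective ?_
      have e := h _ (pt X x (CommRingCat.ofHom σ₁.toRingHom)) (pt X x (CommRingCat.ofHom σ₂.toRingHom)) (by
        rw [pt_comp, pt_comp]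
        exact congrArg (pt Y (f x)) (CommRingCat.hom_ext (RingHom.ext fun a =>
          (σ₁.commutes a).trans (σ₂.commutes a).symm))) (fun s => by rw [pt_apply, hx])
      exact congrArg CommRingCat.Hom.hom (pt_inj x _ _ e)

end

end BirUnibLib
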